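import Groth.Agent.Lib.MinPrimesSm2.Strict
import Groth.Agent.Lib.EssEtLoc.IntermediateTools
import Groth.Agent.Lib.Hensel.TensorIntegral
import Groth.Agent.Lib.Hensel.BranchCount
import Mathlib.FieldTheory.PurelyInseparable.Basic
import Mathlib.FieldTheory.IsAlgClosed.AlgebraicClosure
import Mathlib.RingTheory.Ideal.GoingDown

/-! # Minimal primes of henselizations through those of strict henselizations -/

set_option autoImplicit false
set_option linter.all false
set_option backward.isDefEq.respectTransparency false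

universe u

open IsLocalRing

namespace GrothLib.MinPrimesSm2

/-- Embeddings of a separable closure differ by an endomorphism. -/
theorem exists_comp_eq_of_isSepClosure {k K M : Type u} [Field k] [Field K] [Field M] [Algebra k K]
    [Algebra k M] [IsSepClosure k K] (f g : K →ₐ[k] M) : ∃ σ : K →ₐ[k] K, f.comp σ = g := by
  haveI : Algebra.IsSeparable k K := IsSepClosure.separable
  haveI : IsSepClosed K := IsSepClosure.sep_closed k
  have h : ∀ x, ∃ y, f y = g x := fun x ↦ by
    letI : Algebra K M := f.toRingHom.toAlgebra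
    haveI : IsScalarTower k K M := .of_algebraMap_eq fun c ↦ (f.commutes c).symm
    have hs : IsSeparable k (g x) := by
      show (minpoly k (g x)).Separable
      rw [minpoly.algHom_eq g g.injective]
      exact Algebra.IsSeparable.isSeparable k x
    have hs' : IsSeparable K (g x) := hs.tower_top K
    obtain ⟨y, hy⟩ := minpoly.mem_range_of_degree_eq_one K (g x)
      (IsSepClosed.degree_eq_one_of_irreducible K (minpoly.irreducible hs'.isIntegral) hs')
    exact ⟨y, hy⟩
  choose σ hσ using h
  exact ⟨{ toFun := σ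
           map_one' := f.injective (by simp [hσ])
           map_mul' := fun a b ↦ f.injective (by simp [hσ])
           map_zero' := f.injective (by simp [hσ])
           map_add' := fun a b ↦ f.injective (by simp [hσ])
           commutes' := fun c ↦ f.injective (by simp [hσ]) }, AlgHom.ext hσ⟩

/-- Extending endomorphisms along a purely inseparable extension of the base. -/
theorem exists_extension_of_purelyInseparable {k kB K KB : Type u} [Field k] [Field kB] [Field K]
    [Field KB] [Algebra k kB] [IsPurelyInseparable k kB] [Algebra kB KB] [IsSepClosure kB KB]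
    (a : k →+* K) (ι : K →+* KB) (hι : ∀ c, ι (a c) = algebraMap kB KB (algebraMap k kB c))
    (σ : K →+* K) (hσ : ∀ c, σ (a c) = a c) :
    ∃ τ : KB →ₐ[kB] KB, ∀ x, τ (ι x) = ι (σ x) := by
  haveI : Algebra.IsSeparable kB KB := IsSepClosure.separable
  let Ω := AlgebraicClosure KB
  let e : KB →+* Ω := algebraMap KB Ω
  letI : Algebra k KB := ((algebraMap kB KB).comp (algebraMap k kB)).toAlgebra
  haveI : IsScalarTower k kB KB := .of_algebraMap_eq fun _ ↦ rfl
  haveI : IsScalarTower k KB Ω := inferInstance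
  haveI : IsScalarTower kB KB Ω := inferInstance
  haveI : IsScalarTower k kB Ω := .of_algebraMap_eq fun c ↦ by
    rw [IsScalarTower.algebraMap_apply k KB Ω, IsScalarTower.algebraMap_apply k kB KB,
      ← IsScalarTower.algebraMap_apply kB KB Ω]
  haveI : Algebra.IsAlgebraic k KB := Algebra.IsAlgebraic.trans k kB KB
  haveI : Algebra.IsAlgebraic k Ω := Algebra.IsAlgebraic.trans k KB Ω
  letI : Algebra k K := a.toAlgebra
  let ιΩ : K →ₐ[k] Ω :=
    { toRingHom := e.comp ι, commutes' := fun c ↦ (congrArg e (hι c)).trans (IsScalarTower.algebraMap_apply k KB Ω c).symm }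
  let gΩ : K →ₐ[k] Ω :=
    { toRingHom := (e.comp ι).comp σ, commutes' := fun c ↦ (congrArg (e.comp ι) (hσ c)).trans ((congrArg e (hι c)).trans (IsScalarTower.algebraMap_apply k KB Ω c).symm) }
  obtain ⟨θ, hθ⟩ : ∃ θ : Ω →ₐ[k] Ω, ∀ x, θ (ιΩ x) = gΩ x := by
    letI : Algebra K Ω := ιΩ.toRingHom.toAlgebra
    haveI : IsScalarTower k K Ω := .of_algebraMap_eq fun c ↦ (ιΩ.commutes c).symm
    haveI : Algebra.IsAlgebraic K Ω := Algebra.IsAlgebraic.tower_top (K := k) K
    obtain ⟨θ, hθ⟩ := IsAlgClosed.surjective_domRestrict_of_isAlgebraic (K := k) (L := K) (M := Ω) (E := Ω) gΩ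
    exact ⟨θ, fun x ↦ AlgHom.congr_fun hθ x⟩
  have hB : ∀ c : kB, θ (algebraMap kB Ω c) = algebraMap kB Ω c := fun c ↦
    AlgHom.congr_fun (Subsingleton.elim (θ.comp (IsScalarTower.toAlgHom k kB Ω))
      (IsScalarTower.toAlgHom k kB Ω)) c
  obtain ⟨τ, hτ⟩ := exists_comp_eq_of_isSepClosure (IsScalarTower.toAlgHom kB KB Ω)
    ({ toRingHom := θ.toRingHom.comp e, commutes' := hB } : KB →ₐ[kB] Ω)
  refine ⟨τ, fun x ↦ e.injective ?_⟩
  exact (AlgHom.congr_fun hτ (ι x)).trans (hθ x)

theorem isLocalHom_of_henselization_comp {R S T : Type u} [CommRing R] [IsLocalRing R] [CommRing S]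
    [IsLocalRing S] [CommRing T] [IsLocalRing T] [Algebra R S] [IsLocalHom (algebraMap R S)]
    [_root_.Hensel.IsHenselization R S] (g : S →+* T) {f : R →+* T} [IsLocalHom f]
    (h : g.comp (algebraMap R S) = f) : IsLocalHom g := by
  refine ((local_hom_TFAE g).out 2 0 rfl rfl).mp ?_
  conv_lhs => rw [← GrothLib.Hensel.IsHenselization.map_maximalIdeal (R := R) (S := S)]
  rw [Ideal.map_map, h]
  exact ((local_hom_TFAE f).out 0 2 rfl rfl).mp inferInstance

/-- Endomorphisms of a strict henselization over the base are local. -/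
theorem isLocalHom_algHom {A As : Type u} [CommRing A] [IsLocalRing A] [CommRing As] [IsLocalRing As]
    [Algebra A As] [IsLocalHom (algebraMap A As)] [_root_.Hensel.IsStrictHenselization A As]
    (σ : As →ₐ[A] As) : IsLocalHom σ.toRingHom := by
  refine ((local_hom_TFAE σ.toRingHom).out 2 0 rfl rfl).mp ?_
  conv_lhs => rw [← GrothLib.Hensel.IsStrictHenselization.map_maximalIdeal (R := A) (S := As)]
  rw [Ideal.map_map, show σ.toRingHom.comp (algebraMap A As) = algebraMap A As from RingHom.ext σ.commutes,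
    GrothLib.Hensel.IsStrictHenselization.map_maximalIdeal]

section

variable {A Ah As : Type u} [CommRing A] [IsLocalRing A] [CommRing Ah] [IsLocalRing Ah]
  [CommRing As] [IsLocalRing As] [Algebra A Ah] [IsLocalHom (algebraMap A Ah)]
  [hAh : _root_.Hensel.IsHenselization A Ah]
  [Algebra A As] [IsLocalHom (algebraMap A As)] [hAs : _root_.Hensel.IsStrictHenselization A As]
  [Algebra Ah As] [IsLocalHom (algebraMap Ah As)] [IsScalarTower A Ah As]

include hAh hAs in
/-- A strict henselization is a strict henselization of the henselization. -/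
theorem isStrictHenselization_of_henselization : _root_.Hensel.IsStrictHenselization Ah As := by
  refine ⟨hAs.henselian, ?_, fun T _ _ f hf τ hτ ↦ ?_⟩
  · haveI := hAs.isSepClosure
    haveI : IsSepClosed (ResidueField As) := IsSepClosure.sep_closed (ResidueField A)
    haveI : Algebra.IsSeparable (ResidueField A) (ResidueField As) := IsSepClosure.separable
    haveI : IsScalarTower (ResidueField A) (ResidueField Ah) (ResidueField As) :=
      .of_algebraMap_eq fun z ↦ by
        obtain ⟨b, rfl⟩ := residue_surjective z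
        show residue As (algebraMap A As b) = residue As (algebraMap Ah As (algebraMap A Ah b))
        rw [← IsScalarTower.algebraMap_apply]
    exact ⟨inferInstance, Algebra.isSeparable_tower_top_of_isSeparable (ResidueField A) _ _⟩
  haveI := hf
  haveI : IsLocalHom (f.comp (algebraMap A Ah)) := inferInstance
  obtain ⟨g, ⟨hg, hgr⟩, huniq⟩ := hAs.universal T (f.comp (algebraMap A Ah)) τ (by
    refine Ideal.Quotient.ringHom_ext (RingHom.ext fun a ↦ ?_)
    have := RingHom.congr_fun hτ (residue Ah (algebraMap A Ah a))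
    change τ (residue As (algebraMap Ah As (algebraMap A Ah a))) =
      residue T (f (algebraMap A Ah a)) at this
    rw [← IsScalarTower.algebraMap_apply] at this
    exact this)
  refine ⟨g, ⟨(hAh.universal T (f.comp (algebraMap A Ah)) inferInstance).unique ?_ rfl, hgr⟩,
    fun g' hg' ↦ huniq g' ⟨?_, hg'.2⟩⟩
  · rw [RingHom.comp_assoc, ← IsScalarTower.algebraMap_eq, hg]
  · rw [IsScalarTower.algebraMap_eq A Ah As, ← RingHom.comp_assoc, hg'.1]

include hAh hAs in
/-- The automorphisms of the strict henselization are transitive on primes over a given one. -/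
theorem exists_algHom_comap_eq (P₁ P₂ : Ideal As) [P₁.IsPrime] [P₂.IsPrime]
    (h : P₁.comap (algebraMap Ah As) = P₂.comap (algebraMap Ah As)) :
    ∃ σ : As →ₐ[A] As, P₂ = P₁.comap σ.toRingHom := by
  haveI := hAh.henselian
  haveI := hAs.henselian
  haveI := isStrictHenselization_of_henselization (A := A) (Ah := Ah) (As := As)
  haveI : Algebra.IsIntegral Ah As := ⟨fun s ↦ GrothLib.EssEtLoc.isIntegral_strictHenselization s⟩
  let P := P₁.comap (algebraMap Ah As)
  let Ω := AlgebraicClosure (FractionRing (Ah ⧸ P))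
  haveI : FaithfulSMul (Ah ⧸ P) Ω := (faithfulSMul_iff_algebraMap_injective _ _).mpr (by
    rw [IsScalarTower.algebraMap_eq (Ah ⧸ P) (FractionRing (Ah ⧸ P)) Ω]
    exact (algebraMap (FractionRing (Ah ⧸ P)) Ω).injective.comp (IsFractionRing.injective _ _))
  have hφ : ∀ (Q : Ideal As) [Q.IsPrime], Q.comap (algebraMap Ah As) = P →
      ∃ φ : As →ₐ[Ah] Ω, RingHom.ker φ.toRingHom = Q := fun Q _ hQ ↦ by
    haveI : Q.LiesOver P := ⟨hQ.symm⟩
    haveI : IsScalarTower Ah (Ah ⧸ P) (As ⧸ Q) := inferInstance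
    haveI : Algebra.IsIntegral (Ah ⧸ P) (As ⧸ Q) := by
      haveI : Algebra.IsIntegral Ah (As ⧸ Q) := Algebra.IsIntegral.of_surjective
        (IsScalarTower.toAlgHom Ah As (As ⧸ Q)) Ideal.Quotient.mk_surjective
      exact Algebra.IsIntegral.tower_top Ah
    haveI : Module.IsTorsionFree (Ah ⧸ P) (As ⧸ Q) := Module.isTorsionFree_iff_faithfulSMul.mpr inferInstance
    haveI : Module.IsTorsionFree (Ah ⧸ P) Ω := Module.isTorsionFree_iff_faithfulSMul.mpr inferInstance
    let φ₀ : As ⧸ Q →ₐ[Ah ⧸ P] Ω := IsAlgClosed.lift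
    refine ⟨(φ₀.restrictScalars Ah).comp (IsScalarTower.toAlgHom Ah As (As ⧸ Q)), ?_⟩
    have hk : RingHom.ker φ₀.toRingHom = ⊥ := by
      haveI := RingHom.ker_isPrime φ₀.toRingHom
      refine Ideal.eq_bot_of_comap_eq_bot (R := Ah ⧸ P) (eq_bot_iff.mpr fun x hx ↦ ?_)
      have h0 : φ₀ (algebraMap _ _ x) = 0 := hx
      rw [AlgHom.commutes] at h0
      exact Ideal.mem_bot.mpr ((faithfulSMul_iff_algebraMap_injective _ _).mp inferInstance
        (h0.trans (map_zero _).symm))
    show RingHom.ker (φ₀.toRingHom.comp (Ideal.Quotient.mk Q)) = Q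
    rw [← RingHom.comap_ker, hk, ← RingHom.ker_eq_comap_bot, Ideal.mk_ker]
  obtain ⟨ψ₁, hψ₁⟩ := hφ P₁ rfl
  obtain ⟨ψ₂, hψ₂⟩ := hφ P₂ h.symm
  let W := integralClosure Ah Ω
  haveI : Algebra.IsIntegral Ah W := ⟨fun w ↦ (isIntegral_algHom_iff W.val Subtype.val_injective).mp w.2⟩
  haveI : IsLocalRing W := by
    obtain ⟨M, hM⟩ := Ideal.exists_maximal W
    haveI := hM
    exact IsLocalRing.of_unique_max_ideal ⟨M, hM, fun N hN ↦ by
      haveI := hN
      exact GrothLib.Hensel.eq_of_isMaximal_of_isIntegral (S := Ah)⟩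
  haveI : IsLocalHom (algebraMap Ah W) := by
    refine ((local_hom_TFAE (algebraMap Ah W)).out 4 0 rfl rfl).mp ?_
    exact eq_maximalIdeal (Ideal.isMaximal_comap_of_isIntegral_of_isMaximal (R := Ah) (maximalIdeal W))
  haveI : HenselianLocalRing W := GrothLib.Hensel.henselianLocalRing_of_isIntegral_isLocalHom (R := Ah)
  let φ₁ : As →ₐ[Ah] W := ψ₁.codRestrict W fun s ↦ (Algebra.IsIntegral.isIntegral s).map ψ₁
  let φ₂ : As →ₐ[Ah] W := ψ₂.codRestrict W fun s ↦ (Algebra.IsIntegral.isIntegral s).map ψ₂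
  have hloc : ∀ φ : As →ₐ[Ah] W, IsLocalHom φ.toRingHom := fun φ ↦ by
    refine ((local_hom_TFAE φ.toRingHom).out 4 0 rfl rfl).mp (eq_maximalIdeal ?_)
    refine Ideal.isMaximal_of_isIntegral_of_isMaximal_comap (R := Ah) _ ?_
    rw [Ideal.comap_comap, show φ.toRingHom.comp (algebraMap Ah As) = algebraMap Ah W from RingHom.ext φ.commutes]
    exact Ideal.isMaximal_comap_of_isIntegral_of_isMaximal (R := Ah) (maximalIdeal W)
  haveI := hloc φ₁
  haveI := hloc φ₂
  let f : A →+* W := (algebraMap Ah W).comp (algebraMap A Ah)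
  haveI : IsLocalHom f := inferInstance
  have hf : ∀ φ : As →ₐ[Ah] W, φ.toRingHom.comp (algebraMap A As) = f := fun φ ↦ by
    ext a
    show (φ (algebraMap A As a) : Ω) = (algebraMap Ah W (algebraMap A Ah a) : Ω)
    rw [IsScalarTower.algebraMap_apply A Ah As, φ.commutes]
  letI : Algebra (ResidueField A) (ResidueField W) := (ResidueField.map f).toAlgebra
  let τ : ∀ φ : As →ₐ[Ah] W, ResidueField As →ₐ[ResidueField A] ResidueField W := fun φ ↦
    haveI := hloc φ
    { toRingHom := ResidueField.map φ.toRingHom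
      commutes' := fun c ↦ by
        obtain ⟨a, rfl⟩ := residue_surjective c
        exact congrArg (residue W) (RingHom.congr_fun (hf φ) a) }
  haveI := hAs.isSepClosure
  obtain ⟨σ₀, hσ₀⟩ := exists_comp_eq_of_isSepClosure (τ φ₁) (τ φ₂)
  obtain ⟨σ, hσ⟩ := GrothLib.Hensel.IsStrictHenselization.exists_algHom (R := A) (S := As) As σ₀
  refine ⟨σ, ?_⟩
  have heq : φ₁.toRingHom.comp σ.toRingHom = φ₂.toRingHom := by
    refine (hAs.universal W f (τ φ₂).toRingHom (RingHom.ext fun c ↦ (τ φ₂).commutes c)).unique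
      ⟨?_, fun x ↦ ?_⟩ ⟨hf φ₂, fun x ↦ rfl⟩
    · rw [RingHom.comp_assoc, show σ.toRingHom.comp (algebraMap A As) = algebraMap A As from
        RingHom.ext σ.commutes, hf φ₁]
    · show residue W (φ₁ (σ x)) = τ φ₂ (residue As x)
      rw [← hσ₀]
      show residue W (φ₁ (σ x)) = τ φ₁ (σ₀ (residue As x))
      rw [← hσ]
      rfl
  rw [← hψ₁, ← hψ₂]
  ext x
  show ψ₂ x = 0 ↔ ψ₁ (σ x) = 0
  rw [show ψ₂ x = ψ₁ (σ x) from congrArg Subtype.val (RingHom.congr_fun heq x).symm]

end

/-- The contractions of minimal primes along a faithfully flat map. -/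
theorem image_comap_minimalPrimes {X Y : Type u} [CommRing X] [CommRing Y] [Algebra X Y]
    [Module.FaithfullyFlat X Y] :
    Ideal.comap (algebraMap X Y) '' minimalPrimes Y = minimalPrimes X := by
  ext P
  constructor
  · rintro ⟨Q, hQ, rfl⟩
    haveI := hQ.1.1
    refine ⟨⟨inferInstance, bot_le⟩, fun P₀ hP₀ hle ↦ ?_⟩
    haveI := hP₀.1
    haveI : Q.LiesOver (Q.comap (algebraMap X Y)) := ⟨rfl⟩
    obtain ⟨Q', hQQ, hQ', hover⟩ := Ideal.exists_ideal_le_liesOver_of_le (p := P₀) Q hle
    exact (Ideal.comap_mono (hQ.2 ⟨hQ', bot_le⟩ hQQ)).trans hover.over.ge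
  · intro hP
    haveI := hP.1.1
    obtain ⟨Q, hQ⟩ := PrimeSpectrum.comap_surjective_of_faithfullyFlat (A := X) (B := Y) ⟨P, inferInstance⟩
    obtain ⟨Q', hQ', hle⟩ := Ideal.exists_minimalPrimes_le (I := ⊥) (J := Q.asIdeal) bot_le
    haveI := hQ'.1.1
    have h : Q'.comap (algebraMap X Y) ≤ P :=
      (Ideal.comap_mono hle).trans (congrArg PrimeSpectrum.asIdeal hQ).le
    exact ⟨Q', hQ', le_antisymm h (hP.2 ⟨inferInstance, bot_le⟩ h)⟩

/-- Equal numbers of branches along a map with purely inseparable residue extension, given the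
comparison of geometric branches. -/
theorem encard_minimalPrimes_henselization {A B Ah Bh As Bs : Type u}
    [CommRing A] [IsLocalRing A] [CommRing B] [IsLocalRing B] (f : A →+* B) [IsLocalHom f]
    (hpi : letI := (ResidueField.map f).toAlgebra; IsPurelyInseparable (ResidueField A) (ResidueField B))
    [CommRing Ah] [IsLocalRing Ah] [Algebra A Ah] [IsLocalHom (algebraMap A Ah)]
    [hAh : _root_.Hensel.IsHenselization A Ah]
    [CommRing Bh] [IsLocalRing Bh] [Algebra B Bh] [IsLocalHom (algebraMap B Bh)]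
    [hBh : _root_.Hensel.IsHenselization B Bh]
    [CommRing As] [IsLocalRing As] [Algebra A As] [IsLocalHom (algebraMap A As)]
    [hAs : _root_.Hensel.IsStrictHenselization A As]
    [CommRing Bs] [IsLocalRing Bs] [Algebra B Bs] [IsLocalHom (algebraMap B Bs)]
    [hBs : _root_.Hensel.IsStrictHenselization B Bs]
    (j : As →+* Bs) [IsLocalHom j] (hj : j.comp (algebraMap A As) = (algebraMap B Bs).comp f)
    (hbij : Set.BijOn (Ideal.map j) (minimalPrimes As) (minimalPrimes Bs))
    (h2 : ∀ P : Ideal As, (P.map j).comap j = P) :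
    (minimalPrimes Ah).encard = (minimalPrimes Bh).encard := by
  haveI := hBh.henselian
  haveI := hAs.henselian
  haveI := hBs.henselian
  obtain ⟨i, hi, -⟩ := hAh.universal As (algebraMap A As) inferInstance
  obtain ⟨i', hi', -⟩ := hBh.universal Bs (algebraMap B Bs) inferInstance
  obtain ⟨k, hk, -⟩ := hAh.universal Bh ((algebraMap B Bh).comp f) inferInstance
  have hkl : IsLocalHom k := isLocalHom_of_henselization_comp (R := A) k hk
  letI : Algebra Ah As := i.toAlgebra
  letI : Algebra Bh Bs := i'.toAlgebra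
  haveI : IsScalarTower A Ah As := .of_algebraMap_eq' hi.symm
  haveI : IsScalarTower B Bh Bs := .of_algebraMap_eq' hi'.symm
  haveI : IsLocalHom (algebraMap Ah As) :=
    isLocalHom_of_henselization_comp (R := A) i hi
  haveI : IsLocalHom (algebraMap Bh Bs) :=
    isLocalHom_of_henselization_comp (R := B) i' hi'
  haveI := isStrictHenselization_of_henselization (A := A) (Ah := Ah) (As := As)
  haveI := isStrictHenselization_of_henselization (A := B) (Ah := Bh) (As := Bs)
  haveI : Module.FaithfullyFlat Ah As := GrothLib.Hensel.IsStrictHenselization.faithfullyFlat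
  haveI : Module.FaithfullyFlat Bh Bs := GrothLib.Hensel.IsStrictHenselization.faithfullyFlat
  have hsq : j.comp i = i'.comp k := by
    haveI : IsLocalHom (((algebraMap B Bs).comp f)) := inferInstance
    refine (hAh.universal Bs ((algebraMap B Bs).comp f) inferInstance).unique ?_ ?_
    · rw [RingHom.comp_assoc, hi, hj]
    · rw [RingHom.comp_assoc, hk, ← RingHom.comp_assoc, hi']
  have hA : Ideal.comap i '' minimalPrimes As = minimalPrimes Ah := image_comap_minimalPrimes
  have hB : Ideal.comap i' '' minimalPrimes Bs = minimalPrimes Bh := image_comap_minimalPrimes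
  have hcomp : ∀ P ∈ minimalPrimes As, ((P.map j).comap i').comap k = P.comap i := fun P hP ↦ by
    rw [Ideal.comap_comap, ← hsq, ← Ideal.comap_comap, h2]
  suffices h : Set.BijOn (Ideal.comap k) (minimalPrimes Bh) (minimalPrimes Ah) by
    rw [← h.image_eq, h.injOn.encard_image]
  refine ⟨?_, ?_, ?_⟩
  · intro Q hQ
    obtain ⟨Q', hQ', rfl⟩ := hB.ge hQ
    obtain ⟨P, hP, rfl⟩ := hbij.surjOn hQ'
    rw [hcomp P hP]
    exact hA.le ⟨P, hP, rfl⟩
  · intro Q₁ hQ₁ Q₂ hQ₂ he
    obtain ⟨Q₁', hQ₁', rfl⟩ := hB.ge hQ₁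
    obtain ⟨P₁, hP₁, rfl⟩ := hbij.surjOn hQ₁'
    obtain ⟨Q₂', hQ₂', rfl⟩ := hB.ge hQ₂
    obtain ⟨P₂, hP₂, rfl⟩ := hbij.surjOn hQ₂'
    haveI := hP₁.1.1
    haveI := hP₂.1.1
    rw [hcomp P₁ hP₁, hcomp P₂ hP₂] at he
    obtain ⟨σ, hσ⟩ := exists_algHom_comap_eq (A := A) (Ah := Ah) P₂ P₁ he.symm
    haveI : IsLocalHom σ.toRingHom := isLocalHom_algHom σ
    letI := (ResidueField.map f).toAlgebra
    haveI := hpi
    haveI := hBs.isSepClosure
    obtain ⟨τ, hτ⟩ := exists_extension_of_purelyInseparable (k := ResidueField A)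
      (kB := ResidueField B) (KB := ResidueField Bs) (ResidueField.map (algebraMap A As))
      (ResidueField.map j) (fun c ↦ by
        obtain ⟨a, rfl⟩ := residue_surjective c
        exact congrArg (residue Bs) (RingHom.congr_fun hj a))
      (ResidueField.map σ.toRingHom) (fun c ↦ by
        obtain ⟨a, rfl⟩ := residue_surjective c
        exact congrArg (residue As) (σ.commutes a))
    obtain ⟨σ', hσ'⟩ := GrothLib.Hensel.IsStrictHenselization.exists_algHom (R := B) (S := Bs) Bs τ
    have hσj : σ'.toRingHom.comp j = j.comp σ.toRingHom := by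
      let φ : As →+* Bs := j.comp σ.toRingHom
      haveI : IsLocalHom φ := RingHom.isLocalHom_comp _ _
      haveI : IsLocalHom ((algebraMap B Bs).comp f) := inferInstance
      refine (hAs.universal Bs ((algebraMap B Bs).comp f) (ResidueField.map φ)
        (Ideal.Quotient.ringHom_ext (RingHom.ext fun a ↦ ?_))).unique ⟨?_, fun x ↦ ?_⟩ ⟨?_, fun x ↦ rfl⟩
      · show residue Bs (j (σ (algebraMap A As a))) = residue Bs (algebraMap B Bs (f a))
        rw [σ.commutes]; exact congrArg (residue Bs) (RingHom.congr_fun hj a)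
      · rw [RingHom.comp_assoc, hj, ← RingHom.comp_assoc]
        exact congrArg (fun g ↦ RingHom.comp g f) (RingHom.ext σ'.commutes)
      · show residue Bs (σ' (j x)) = residue Bs (j (σ x))
        rw [hσ']
        exact hτ (residue As x)
      · rw [RingHom.comp_assoc, show σ.toRingHom.comp (algebraMap A As) = algebraMap A As from
          RingHom.ext σ.commutes, hj]
    have hσi : σ'.toRingHom.comp i' = i' := by
      refine (hBh.universal Bs (algebraMap B Bs) inferInstance).unique ?_ hi'
      rw [RingHom.comp_assoc, hi']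
      exact RingHom.ext σ'.commutes
    have hle : P₁.map j ≤ (P₂.map j).comap σ'.toRingHom := by
      rw [Ideal.map_le_iff_le_comap, Ideal.comap_comap, hσj, ← Ideal.comap_comap, hσ]
      exact Ideal.comap_mono Ideal.le_comap_map
    have hle' : (P₁.map j).comap i' ≤ (P₂.map j).comap i' := by
      refine (Ideal.comap_mono hle).trans (le_of_eq ?_)
      rw [Ideal.comap_comap, hσi]
    exact le_antisymm hle' (hQ₂.2 hQ₁.1 hle')
  · intro P hP
    obtain ⟨P', hP', rfl⟩ := hA.ge hP
    exact ⟨_, hB.le ⟨_, hbij.mapsTo hP', rfl⟩, hcomp P' hP'⟩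

end GrothLib.MinPrimesSm2
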