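import Groth.Agent.Lib.GeomUnib.Prime
import Groth.Agent.Lib.Hensel.TensorPoint
import Mathlib.FieldTheory.IsSepClosed

/-! # Minimal primes of strict henselizations along smooth maps -/

set_option autoImplicit false
set_option linter.all false
set_option backward.isDefEq.respectTransparency false

universe u

open IsLocalRing TensorProduct

namespace GrothLib.MinPrimesSm2

attribute [local instance] Algebra.TensorProduct.rightAlgebra

theorem isPrime_map_strictHenselization_of_smooth
    {R R' T : Type u} [CommRing R] [HenselianLocalRing R] [IsSepClosed (ResidueField R)]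
    [CommRing R'] [Algebra R R'] [Algebra.Smooth R R']
    (q : Ideal R') [q.IsPrime] (hq : (maximalIdeal R).map (algebraMap R R') ≤ q)
    [CommRing T] [IsLocalRing T] [Algebra (Localization.AtPrime q) T]
    [IsLocalHom (algebraMap (Localization.AtPrime q) T)]
    [_root_.Hensel.IsStrictHenselization (Localization.AtPrime q) T]
    (I : Ideal R) [I.IsPrime] :
    ((I.map (algebraMap R R')).map (algebraMap R' (Localization.AtPrime q))).map
      (algebraMap (Localization.AtPrime q) T) |>.IsPrime := by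
  let A := Localization.AtPrime q
  haveI hqm : q.LiesOver (maximalIdeal R) :=
    ⟨((maximalIdeal.isMaximal R).eq_of_le (Ideal.comap_ne_top _ (Ideal.IsPrime.ne_top inferInstance))
      (Ideal.map_le_iff_le_comap.mp hq))⟩
  haveI : IsLocalHom (algebraMap R A) := ⟨fun x hx ↦ by
    rw [IsScalarTower.algebraMap_apply R R' A, IsLocalization.AtPrime.isUnit_to_map_iff A q] at hx
    by_contra hu
    exact hx (hq (Ideal.mem_map_of_mem _ ((mem_maximalIdeal x).mpr hu)))⟩
  haveI : IsLocalRing (R ⧸ I) := IsLocalRing.of_surjective' _ Ideal.Quotient.mk_surjective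
  haveI : IsLocalHom (algebraMap R (R ⧸ I)) := IsLocalHom.of_surjective _ Ideal.Quotient.mk_surjective
  haveI : Algebra.IsIntegral R (R ⧸ I) :=
    Algebra.IsIntegral.of_surjective (Algebra.ofId R (R ⧸ I)) Ideal.Quotient.mk_surjective
  haveI : HenselianLocalRing (R ⧸ I) := GrothLib.Hensel.henselianLocalRing_of_isIntegral_isLocalHom (R := R)
  haveI : Algebra.IsIntegral (ResidueField R) (ResidueField (R ⧸ I)) := by
    haveI : Algebra.IsIntegral R (ResidueField (R ⧸ I)) := Algebra.IsIntegral.of_surjective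
      (IsScalarTower.toAlgHom R (R ⧸ I) (ResidueField (R ⧸ I))) residue_surjective
    exact Algebra.IsIntegral.tower_top R
  haveI : IsSepClosed (ResidueField (R ⧸ I)) := Algebra.IsAlgebraic.isSepClosed (F := ResidueField R)
  let J' : Ideal R' := I.map (algebraMap R R')
  haveI : Algebra.Smooth (R ⧸ I) (R' ⧸ J') :=
    Algebra.Smooth.of_equiv (Algebra.TensorProduct.quotIdealMapEquivQuotTensor R' I).symm
  have hJq : J' ≤ q := le_trans (Ideal.map_mono (le_maximalIdeal (Ideal.IsPrime.ne_top inferInstance))) hq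
  let qb : Ideal (R' ⧸ J') := q.map (Ideal.Quotient.mk J')
  haveI : qb.IsPrime := Ideal.map_isPrime_of_surjective Ideal.Quotient.mk_surjective (by
    rw [Ideal.mk_ker]; exact hJq)
  have hqb : qb.comap (Ideal.Quotient.mk J') = q := by
    rw [Ideal.comap_map_of_surjective _ Ideal.Quotient.mk_surjective, ← RingHom.ker_eq_comap_bot,
      Ideal.mk_ker, sup_eq_left]
    exact hJq
  obtain ⟨hd, hg⟩ := GrothLib.GeomUnib.isDomain_and_isGeomUnibranch_localization_of_smooth (R := R ⧸ I) (R' := R' ⧸ J') qb (by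
    refine Ideal.map_le_iff_le_comap.mpr fun x hx ↦ ?_
    obtain ⟨r, rfl⟩ := Ideal.Quotient.mk_surjective x
    show Ideal.Quotient.mk J' (algebraMap R R' r) ∈ qb
    refine Ideal.mem_map_of_mem _ (hq (Ideal.mem_map_of_mem _ ?_))
    exact fun hu ↦ hx (hu.map _))
  let J : Ideal A := J'.map (algebraMap R' A)
  have hJ : J ≠ ⊤ := fun htop ↦ (maximalIdeal.isMaximal A).ne_top (eq_top_mono (by
    rw [← Localization.AtPrime.map_eq_maximalIdeal]
    exact Ideal.map_mono hJq) htop)
  haveI : Nontrivial (A ⧸ J) := Ideal.Quotient.nontrivial_iff.mpr hJ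
  haveI : IsLocalRing (A ⧸ J) := IsLocalRing.of_surjective' _ Ideal.Quotient.mk_surjective
  have hloc : IsLocalization.AtPrime (A ⧸ J) qb := by
    have h0 : IsLocalization (Algebra.algebraMapSubmonoid (R' ⧸ J') q.primeCompl) (A ⧸ J) := inferInstance
    have hs : Algebra.algebraMapSubmonoid (R' ⧸ J') q.primeCompl = qb.primeCompl := by
      ext x
      obtain ⟨r, rfl⟩ := Ideal.Quotient.mk_surjective x
      refine ⟨fun ⟨s, hs, hsr⟩ h ↦ hs (hqb.le (show Ideal.Quotient.mk J' s ∈ qb from ?_)),
        fun h ↦ ⟨r, fun hr ↦ h (Ideal.mem_map_of_mem _ hr), rfl⟩⟩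
      exact (show Ideal.Quotient.mk J' s = Ideal.Quotient.mk J' r from hsr).symm ▸ h
    rw [hs] at h0
    exact h0
  let ε : Localization.AtPrime qb ≃+* A ⧸ J :=
    (IsLocalization.algEquiv qb.primeCompl (Localization.AtPrime qb) (A ⧸ J)).toRingEquiv
  haveI : IsDomain (A ⧸ J) := ε.symm.toMulEquiv.isDomain _
  have hdom := GrothLib.GeomUnib.isDomain_quotient_strictHenselization (A := A) (S := T) J hJ
    (GrothLib.BrnchNhd.isGeomUnibranch_of_ringEquiv ε hg)
  exact (Ideal.Quotient.isDomain_iff_prime _).mp hdom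

/-- A local map of strict henselizations over a local map. -/
theorem exists_strictHens_map {A B As Bs : Type u} [CommRing A] [IsLocalRing A] [CommRing B]
    [IsLocalRing B] [CommRing As] [IsLocalRing As] [CommRing Bs] [IsLocalRing Bs]
    [Algebra A As] [IsLocalHom (algebraMap A As)] [hA : _root_.Hensel.IsStrictHenselization A As]
    [Algebra B Bs] [IsLocalHom (algebraMap B Bs)] [hB : _root_.Hensel.IsStrictHenselization B Bs]
    (f : A →+* B) [IsLocalHom f] :
    ∃ j : As →+* Bs, IsLocalHom j ∧ j.comp (algebraMap A As) = (algebraMap B Bs).comp f := by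
  haveI := hB.henselian
  haveI := hA.isSepClosure
  haveI : Algebra.IsSeparable (ResidueField A) (ResidueField As) := IsSepClosure.separable
  haveI : IsSepClosed (ResidueField Bs) := hB.isSepClosure.sep_closed
  letI : Algebra (ResidueField A) (ResidueField Bs) :=
    (ResidueField.map ((algebraMap B Bs).comp f)).toAlgebra
  let τ : ResidueField As →ₐ[ResidueField A] ResidueField Bs := IsSepClosed.lift
  obtain ⟨j, ⟨hj, hr⟩, -⟩ := hA.universal Bs ((algebraMap B Bs).comp f) τ.toRingHom
    (RingHom.ext fun x ↦ τ.commutes x)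
  refine ⟨j, ⟨fun x hx ↦ ?_⟩, hj⟩
  by_contra hu
  have h1 : residue As x = 0 := (residue_eq_zero_iff x).mpr ((mem_maximalIdeal x).mpr hu)
  have h2 := hr x
  rw [h1, map_zero] at h2
  exact (mem_maximalIdeal (j x)).mp ((residue_eq_zero_iff _).mp h2) hx

/-- Primes of the strict henselization of the base extend to primes along smooth maps. -/
theorem isPrime_map_and_comap_map {R S Ash Bsh : Type u} [CommRing R] [CommRing S] [Algebra R S]
    [Algebra.Smooth R S] (q : Ideal S) [q.IsPrime] (p : Ideal R) [p.IsPrime] [q.LiesOver p]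
    [CommRing Ash] [IsLocalRing Ash] [Algebra (Localization.AtPrime p) Ash]
    [IsLocalHom (algebraMap (Localization.AtPrime p) Ash)]
    [hA : _root_.Hensel.IsStrictHenselization (Localization.AtPrime p) Ash]
    [CommRing Bsh] [IsLocalRing Bsh] [Algebra (Localization.AtPrime q) Bsh]
    [IsLocalHom (algebraMap (Localization.AtPrime q) Bsh)]
    [hB : _root_.Hensel.IsStrictHenselization (Localization.AtPrime q) Bsh]
    (j : Ash →+* Bsh) [IsLocalHom j]
    (hj : j.comp (algebraMap (Localization.AtPrime p) Ash) =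
      (algebraMap (Localization.AtPrime q) Bsh).comp
        (Localization.localRingHom p q (algebraMap R S) (q.over_def p))) :
    j.Flat ∧ (∀ P : Ideal Ash, P.IsPrime → (P.map j).IsPrime) ∧
      ∀ P : Ideal Ash, (P.map j).comap j = P := by
  let A := Localization.AtPrime p
  let B := Localization.AtPrime q
  letI : Algebra A B := (Localization.localRingHom p q (algebraMap R S) (q.over_def p)).toAlgebra
  haveI : IsLocalHom (algebraMap A B) :=
    inferInstanceAs (IsLocalHom (Localization.localRingHom p q (algebraMap R S) (q.over_def p)))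
  letI : Algebra R Ash := ((algebraMap A Ash).comp (algebraMap R A)).toAlgebra
  letI : Algebra Ash Bsh := j.toAlgebra
  haveI : HenselianLocalRing Ash := hA.henselian
  haveI : IsSepClosed (ResidueField Ash) := hA.isSepClosure.sep_closed
  let iS : S →+* Bsh := (algebraMap B Bsh).comp (algebraMap S B)
  have hjR : ∀ r, j (algebraMap R Ash r) = iS (algebraMap R S r) := fun r ↦ by
    have := RingHom.congr_fun hj (algebraMap R A r)
    simp only [RingHom.comp_apply, A, Localization.localRingHom_to_map] at this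
    exact this
  letI : Algebra R Bsh := (j.comp (algebraMap R Ash)).toAlgebra
  haveI : IsScalarTower R Ash Bsh := .of_algebraMap_eq fun _ ↦ rfl
  let φ : Ash ⊗[R] S →ₐ[Ash] Bsh := Algebra.TensorProduct.lift (Algebra.ofId Ash Bsh)
    ({ toRingHom := iS, commutes' := fun r ↦ (hjR r).symm } : S →ₐ[R] Bsh)
    fun _ _ ↦ Commute.all _ _
  have hφS : ∀ s, φ (1 ⊗ₜ s) = iS s := fun s ↦ by simp [φ]
  let q' : Ideal (Ash ⊗[R] S) := (maximalIdeal Bsh).comap φ.toRingHom
  let D := Localization.AtPrime q'
  have hq' : (maximalIdeal Ash).map (algebraMap Ash (Ash ⊗[R] S)) ≤ q' := by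
    refine Ideal.map_le_iff_le_comap.mpr fun a ha ↦ ?_
    show φ (algebraMap Ash _ a) ∈ maximalIdeal Bsh
    rw [AlgHom.commutes, mem_maximalIdeal]
    exact fun hu ↦ (mem_maximalIdeal a).mp ha (isUnit_of_map_unit j a hu)
  have hu : ∀ d : q'.primeCompl, IsUnit (φ.toRingHom d) := fun d ↦ notMem_maximalIdeal.mp d.2
  letI : Algebra D Bsh := (IsLocalization.lift hu).toAlgebra
  have hψ : ∀ d, algebraMap D Bsh (algebraMap (Ash ⊗[R] S) D d) = φ d := fun d ↦
    IsLocalization.lift_eq hu d
  haveI : IsLocalHom (algebraMap D Bsh) := ⟨fun z hz ↦ by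
    obtain ⟨d, s, rfl⟩ := IsLocalization.exists_mk'_eq q'.primeCompl z
    rw [IsLocalization.AtPrime.isUnit_mk'_iff D q' d s]
    show d ∉ q'
    refine fun hd ↦ hd ?_
    have h := hz.mul (((IsLocalization.map_units D s)).map (algebraMap D Bsh))
    rw [← map_mul, IsLocalization.mk'_spec, hψ] at h
    exact h⟩
  let k0 : S →+* D := (algebraMap (Ash ⊗[R] S) D).comp
    (Algebra.TensorProduct.includeRight : S →ₐ[R] Ash ⊗[R] S).toRingHom
  have hk0 : ∀ x : q.primeCompl, IsUnit (k0 x) := fun x ↦ by
    refine isUnit_of_map_unit (algebraMap D Bsh) _ ?_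
    show IsUnit (algebraMap D Bsh (algebraMap (Ash ⊗[R] S) D (1 ⊗ₜ (x : S))))
    rw [hψ, hφS]
    exact (IsLocalization.map_units B x).map (algebraMap B Bsh)
  letI : Algebra B D := (IsLocalization.lift hk0).toAlgebra
  have hk : ∀ s, algebraMap B D (algebraMap S B s) = algebraMap (Ash ⊗[R] S) D (1 ⊗ₜ s) := fun s ↦
    IsLocalization.lift_eq hk0 s
  haveI : IsScalarTower B D Bsh := IsScalarTower.of_algebraMap_eq' <|
    IsLocalization.ringHom_ext q.primeCompl (RingHom.ext fun s ↦ by
      show iS s = algebraMap D Bsh (algebraMap B D (algebraMap S B s))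
      rw [hk, hψ, hφS])
  haveI : IsLocalHom (algebraMap B D) := ⟨fun b hb ↦ isUnit_of_map_unit (algebraMap B Bsh) b
    (by rw [IsScalarTower.algebraMap_apply B D Bsh]; exact hb.map (algebraMap D Bsh))⟩
  let j' : Ash →+* D := (algebraMap (Ash ⊗[R] S) D).comp (algebraMap Ash (Ash ⊗[R] S))
  have hjD : (algebraMap D Bsh).comp j' = j := RingHom.ext fun a ↦ by
    show algebraMap D Bsh (algebraMap (Ash ⊗[R] S) D (algebraMap Ash _ a)) = j a
    rw [hψ, AlgHom.commutes]; rfl
  haveI : IsLocalHom j' := ⟨fun a ha ↦ isUnit_of_map_unit j a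
    (by rw [← hjD]; exact ha.map (algebraMap D Bsh))⟩
  have hj' : ∀ a : A, j' (algebraMap A Ash a) = algebraMap B D (algebraMap A B a) :=
    RingHom.congr_fun (IsLocalization.ringHom_ext p.primeCompl (RingHom.ext fun r ↦ by
      show algebraMap _ D (algebraMap Ash (Ash ⊗[R] S) (algebraMap R Ash r)) =
        algebraMap B D (Localization.localRingHom p q (algebraMap R S) (q.over_def p) (algebraMap R A r))
      rw [Localization.localRingHom_to_map, hk]
      exact congrArg _ (Algebra.TensorProduct.tmul_one_eq_one_tmul r)) :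
      j'.comp (algebraMap A Ash) = (algebraMap B D).comp (algebraMap A B))
  have hgen : ∀ (T : Type u) [CommRing T] (g₁ g₂ : D →+* T),
      g₁.comp j' = g₂.comp j' →
      g₁.comp (algebraMap B D) = g₂.comp (algebraMap B D) → g₁ = g₂ := fun T _ g₁ g₂ h1 h2 ↦
    IsLocalization.ringHom_ext q'.primeCompl (RingHom.ext fun d ↦ by
      induction d using TensorProduct.induction_on with
      | zero => simp
      | add a b ha hb => rw [map_add, ha, hb, map_add]
      | tmul a b =>
        rw [show a ⊗ₜ[R] b = algebraMap Ash (Ash ⊗[R] S) a * (1 ⊗ₜ[R] b) by simp]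
        simp only [RingHom.comp_apply, map_mul, ← hk]
        exact congrArg₂ (· * ·) (RingHom.congr_fun h1 a) (RingHom.congr_fun h2 (algebraMap S B b)))
  haveI : _root_.Hensel.IsStrictHenselization D Bsh :=
    GrothLib.Hensel.isStrictHenselization_of_generated (A := A) (B := B) j' hj' hgen
  haveI hflat : j.Flat := by
    rw [← hjD]
    refine RingHom.Flat.comp (RingHom.Flat.comp ?_ ?_) ?_
    · exact RingHom.flat_algebraMap_iff.mpr inferInstance
    · exact RingHom.flat_algebraMap_iff.mpr (inferInstanceAs (Module.Flat (Ash ⊗[R] S) (Localization q'.primeCompl)))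
    · exact RingHom.flat_algebraMap_iff.mpr GrothLib.Hensel.IsStrictHenselization.flat
  refine ⟨hflat, fun P hP ↦ ?_, fun P ↦ ?_⟩
  · have := isPrime_map_strictHenselization_of_smooth (T := Bsh) q' hq' P
    rw [Ideal.map_map, Ideal.map_map] at this
    rw [← hjD]
    exact this
  · haveI : Module.Flat Ash Bsh := hflat
    haveI : IsLocalHom (algebraMap Ash Bsh) := ‹IsLocalHom j›
    haveI : Module.FaithfullyFlat Ash Bsh := Module.FaithfullyFlat.of_flat_of_isLocalHom
    exact Ideal.comap_map_eq_self_of_faithfullyFlat P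

/-- Minimal primes correspond bijectively. -/
theorem bijOn_map_minimalPrimes {A B : Type*} [CommRing A] [CommRing B] (j : A →+* B)
    (h1 : ∀ P : Ideal A, P.IsPrime → (P.map j).IsPrime)
    (h2 : ∀ P : Ideal A, (P.map j).comap j = P) :
    Set.BijOn (Ideal.map j) (minimalPrimes A) (minimalPrimes B) := by
  refine ⟨fun P hP ↦ ⟨⟨h1 P hP.1.1, bot_le⟩, fun Q hQ hle ↦ ?_⟩,
    fun P _ P' _ h ↦ by rw [← h2 P, h, h2], fun Q hQ ↦ ?_⟩
  · haveI := hQ.1
    refine Ideal.map_le_iff_le_comap.mpr (hP.2 ⟨inferInstance, bot_le⟩ ?_)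
    exact (Ideal.comap_mono hle).trans (h2 P).le
  · haveI := hQ.1.1
    obtain ⟨P, hP, hle⟩ := Ideal.exists_minimalPrimes_le (I := ⊥) (J := Q.comap j) bot_le
    have hPQ : P.map j ≤ Q := Ideal.map_le_iff_le_comap.mpr hle
    exact ⟨P, hP, le_antisymm hPQ (hQ.2 ⟨h1 P hP.1.1, bot_le⟩ hPQ)⟩

end GrothLib.MinPrimesSm2
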